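import Cfsg.Agent.Lib.Core.Basic
import Cfsg.Agent.Lib.Core.MinNormal
import Cfsg.Agent.Lib.PSmall.Basic
import Mathlib

set_option autoImplicit false

/-!
Trivial intersection Sylow subgroups.
-/

namespace Cfsg.Agent.Lib.TISylow

open Subgroup Cfsg.Agent.Lib.PSmall
open scoped Pointwise

variable {G : Type*} [Group G]

/-- element-wise form of the TI property -/
def TI (S : Subgroup G) : Prop :=
  ∀ g : G, ∀ x ∈ S, x ≠ 1 → g * x * g⁻¹ ∈ S → g ∈ normalizer (S : Set G)

lemma TI.of_inf {S : Subgroup G}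
    (h : ∀ g : G, g ∉ normalizer (S : Set G) → S ⊓ (MulAut.conj g • S) = ⊥) : TI S := by
  intro g x hx hx1 hgx
  by_contra hn
  have h1 := h g hn
  have h2 : g * x * g⁻¹ ∈ S ⊓ (MulAut.conj g • S) :=
    ⟨hgx, Subgroup.smul_mem_pointwise_smul x (MulAut.conj g) S hx⟩
  rw [h1, Subgroup.mem_bot] at h2
  apply hx1
  have h3 : g * x * g⁻¹ = g * 1 * g⁻¹ := by rw [h2]; group
  simpa using h3

lemma TI.inf_eq_bot {S : Subgroup G} (h : TI S) (g : G) (hg : g ∉ normalizer (S : Set G)) :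
    S ⊓ (MulAut.conj g • S) = ⊥ := by
  rw [eq_bot_iff]
  rintro x ⟨hx, hx2⟩
  rw [Subgroup.mem_bot]
  by_contra hx1
  have hx3 : x ∈ MulAut.conj g • S := hx2
  rw [Subgroup.mem_smul_pointwise_iff_exists] at hx3
  obtain ⟨y, hy, rfl⟩ := hx3
  have hy1 : y ≠ 1 := by
    rintro rfl
    simp at hx1
  exact hg (h g y hy hy1 hx)

lemma TI.conj {S : Subgroup G} (h : TI S) (a : G) : TI (MulAut.conj a • S) := by
  have hmem : ∀ y : G, y ∈ MulAut.conj a • S ↔ a⁻¹ * y * a ∈ S := by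
    intro y
    rw [Subgroup.mem_pointwise_smul_iff_inv_smul_mem]
    simp
  intro g x hx hx1 hgx
  rw [hmem] at hx hgx
  have h1 : a⁻¹ * g * a ∈ normalizer (S : Set G) := by
    apply h (a⁻¹ * g * a) (a⁻¹ * x * a) hx
    · intro h2
      apply hx1
      have : x = a * (a⁻¹ * x * a) * a⁻¹ := by group
      rw [this, h2]; group
    · have : a⁻¹ * g * a * (a⁻¹ * x * a) * (a⁻¹ * g * a)⁻¹ = a⁻¹ * (g * x * g⁻¹) * a := by group
      rw [this]; exact hgx
  rw [Subgroup.mem_set_normalizer_iff] at h1 ⊢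
  intro y
  rw [SetLike.mem_coe, SetLike.mem_coe, hmem, hmem]
  have h2 := h1 (a⁻¹ * y * a)
  have : a⁻¹ * g * a * (a⁻¹ * y * a) * (a⁻¹ * g * a)⁻¹ = a⁻¹ * (g * y * g⁻¹) * a := by group
  rw [this] at h2
  exact h2

lemma TI.sylow [Finite G] {p : ℕ} [Fact p.Prime] {P : Sylow p G} (h : TI (P : Subgroup G)) (Q : Sylow p G) :
    TI (Q : Subgroup G) := by
  obtain ⟨g, rfl⟩ := MulAction.exists_smul_eq G P Q
  rw [Sylow.coe_subgroup_smul]
  exact h.conj g

/-- TI for all Sylow subgroups passes to subgroups. -/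
lemma TI.subgroup [Finite G] {p : ℕ} [Fact p.Prime] (h : ∀ P : Sylow p G, TI (P : Subgroup G))
    (N : Subgroup G) (Q : Sylow p N) : TI (Q : Subgroup N) := by
  have hQp : IsPGroup p ((Q : Subgroup N).map N.subtype) := Q.2.map _
  obtain ⟨P, hP⟩ := hQp.exists_le_sylow
  have hsub : ((P : Subgroup G).subgroupOf N) = (Q : Subgroup N) := by
    apply Q.3
    · exact P.2.comap_of_injective N.subtype N.subtype_injective
    · intro q hq
      exact hP ⟨q, hq, rfl⟩
  intro n x hx hx1 hnx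
  apply mem_normalizer_of_conj_mem
  have hxP : (x : G) ∈ (P : Subgroup G) := hP ⟨x, hx, rfl⟩
  have hnxP : ((n : G)) * x * (n : G)⁻¹ ∈ (P : Subgroup G) := hP ⟨_, hnx, by simp⟩
  have hx1' : (x : G) ≠ 1 := by simpa using hx1
  have hn := h P (n : G) x hxP hx1' hnxP
  intro y hy
  rw [← hsub, Subgroup.mem_subgroupOf] at hy ⊢
  have := (Subgroup.mem_set_normalizer_iff.1 hn y).1 hy
  exact this

/-- In a group with TI Sylow `p`-subgroups and `O_p(G) = O_{p'}(G) = 1`, two nontrivial normal subgroups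
never commute. -/
theorem not_commute [Finite G] {p : ℕ} [Fact p.Prime] (h : ∀ P : Sylow p G, TI (P : Subgroup G))
    (hOp : Cfsg.pCore p G = ⊥) (hOp' : Cfsg.pPrimeCore p G = ⊥) (A B : Subgroup G) [hA : A.Normal] [hB : B.Normal]
    (hA1 : A ≠ ⊥) (hB1 : B ≠ ⊥) (hAB : ∀ a ∈ A, ∀ b ∈ B, a * b = b * a) : False := by
  have hp : p.Prime := Fact.out
  have hdvd : ∀ C : Subgroup G, C.Normal → C ≠ ⊥ → p ∣ Nat.card C := by
    intro C hC hC1
    by_contra hnd
    apply hC1
    have h1 : (Nat.card C).Coprime p := ((Nat.Prime.coprime_iff_not_dvd hp).2 hnd).symm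
    have h2 := Cfsg.Agent.Lib.Core.le_pPrimeCore hC h1
    rw [hOp'] at h2
    exact le_bot_iff.1 h2
  obtain ⟨z', hz'⟩ := exists_prime_orderOf_dvd_card' p (hdvd A hA hA1)
  obtain ⟨x', hx'⟩ := exists_prime_orderOf_dvd_card' p (hdvd B hB hB1)
  set z : G := (z' : G) with hzdef
  set x : G := (x' : G) with hxdef
  have hz : orderOf z = p := by rw [hzdef, Subgroup.orderOf_coe, hz']
  have hx : orderOf x = p := by rw [hxdef, Subgroup.orderOf_coe, hx']
  have hzA : z ∈ A := z'.2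
  have hxB : x ∈ B := x'.2
  have hpg : ∀ y : G, orderOf y = p → IsPGroup p (Subgroup.zpowers y) := by
    intro y hy
    apply IsPGroup.of_card (n := 1)
    rw [Nat.card_zpowers, hy, pow_one]
  obtain ⟨P, hP⟩ := (hpg z hz).exists_le_sylow
  have hzP : z ∈ (P : Subgroup G) := hP (Subgroup.mem_zpowers z)
  have hz1 : z ≠ 1 := by
    rintro h1
    rw [h1, orderOf_one] at hz
    exact hp.one_lt.ne hz
  have hx1 : x ≠ 1 := by
    rintro h1
    rw [h1, orderOf_one] at hx
    exact hp.one_lt.ne hx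
  have hxN : x ∈ normalizer ((P : Subgroup G) : Set G) := by
    apply h P x z hzP hz1
    have : x * z * x⁻¹ = z := by
      rw [← hAB z hzA x hxB]; group
    rw [this]; exact hzP
  have hxP : x ∈ (P : Subgroup G) := by
    have h1 := (hpg x hx).inf_normalizer_sylow P
    have h2 : x ∈ Subgroup.zpowers x ⊓ normalizer (P : Set G) := ⟨Subgroup.mem_zpowers x, hxN⟩
    rw [h1] at h2
    exact h2.2
  have hAN : ∀ y ∈ A, y ∈ normalizer ((P : Subgroup G) : Set G) := by
    intro y hy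
    apply h P y x hxP hx1
    have : y * x * y⁻¹ = x := by
      rw [hAB y hy x hxB]; group
    rw [this]; exact hxP
  -- `P ∩ A` is a normal `p`-subgroup of `A`.
  have hn : ((P : Subgroup G).subgroupOf A).Normal := by
    constructor
    intro n hn g
    rw [Subgroup.mem_subgroupOf] at hn ⊢
    exact (Subgroup.mem_set_normalizer_iff.1 (hAN g g.2) n).1 hn
  have hpA : IsPGroup p ((P : Subgroup G).subgroupOf A) :=
    P.2.comap_of_injective A.subtype A.subtype_injective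
  have h1 := Cfsg.Agent.Lib.Core.le_pCore hn hpA
  have h2 : z' ∈ Cfsg.pCore p A := h1 (by rw [Subgroup.mem_subgroupOf]; exact hzP)
  have h3 : z ∈ A ⊓ Cfsg.pCore p G := by
    rw [← Cfsg.Agent.Lib.Core.map_pCore_of_normal]
    exact ⟨z', h2, rfl⟩
  rw [hOp, inf_bot_eq, Subgroup.mem_bot] at h3
  exact hz1 h3

end Cfsg.Agent.Lib.TISylow
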